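import Mathlib.AlgebraicGeometry.IdealSheaf.Subscheme
import Mathlib.AlgebraicGeometry.Morphisms.ClosedImmersion
import Mathlib.AlgebraicGeometry.Cover.Open

/-!
# Closed loci from local ideals

A property of morphisms into `T`, stable under composition and local on the source, which near every
point is cut out on an affine open by an ideal, is represented by a closed subscheme of `T`.
(Adapted from `Groth.Agent.GrpSch.WeilClosed`.)
-/

set_option autoImplicit false

universe u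

open AlgebraicGeometry CategoryTheory CategoryTheory.Limits

namespace Groth.Agent.ClosedLocus

variable {T : Scheme.{u}} {P : ∀ {T' : Scheme.{u}}, (T' ⟶ T) → Prop}
  (hcomp : ∀ {T' T'' : Scheme.{u}} {f : T' ⟶ T} (a : T'' ⟶ T'), P f → P (a ≫ f))
  (hcover : ∀ {T' : Scheme.{u}} (f : T' ⟶ T) (𝒱 : Scheme.OpenCover.{u, u} T'), (∀ i, P (𝒱.f i ≫ f)) → P f)
  (hloc : ∀ t : T, ∃ V : T.affineOpens, t ∈ V.1 ∧ ∃ L : Ideal Γ(T, V.1),
    ∀ (C : CommRingCat.{u}) (ψ : Γ(T, V.1) ⟶ C),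
      P (Spec.map ψ ≫ V.2.fromSpec) ↔ L ≤ RingHom.ker ψ.hom)

/-- existence of a minimal agreeing ideal on an affine open -/
def Good (P : ∀ {T' : Scheme.{u}}, (T' ⟶ T) → Prop) (U : T.affineOpens) : Prop :=
  ∃ L : Ideal Γ(T, U.1), ∀ (C : CommRingCat.{u}) (ψ : Γ(T, U.1) ⟶ C),
    P (Spec.map ψ ≫ U.2.fromSpec) ↔ L ≤ RingHom.ker ψ.hom


lemma ideal_unique {U : T.affineOpens} {L L' : Ideal Γ(T, U.1)}
    (h : ∀ (C : CommRingCat.{u}) (ψ : Γ(T, U.1) ⟶ C),
      P (Spec.map ψ ≫ U.2.fromSpec) ↔ L ≤ RingHom.ker ψ.hom)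
    (h' : ∀ (C : CommRingCat.{u}) (ψ : Γ(T, U.1) ⟶ C),
      P (Spec.map ψ ≫ U.2.fromSpec) ↔ L' ≤ RingHom.ker ψ.hom) : L = L' := by
  refine le_antisymm ?_ ?_
  · simpa using ((h _ (CommRingCat.ofHom (Ideal.Quotient.mk L'))).symm.trans
      (h' _ (CommRingCat.ofHom (Ideal.Quotient.mk L')))).mpr (by simp)
  · simpa using ((h _ (CommRingCat.ofHom (Ideal.Quotient.mk L))).symm.trans
      (h' _ (CommRingCat.ofHom (Ideal.Quotient.mk L)))).mp (by simp)

lemma good_of_le {U W : T.affineOpens} (hle : W.1 ≤ U.1) {L : Ideal Γ(T, U.1)}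
    (h : ∀ (C : CommRingCat.{u}) (ψ : Γ(T, U.1) ⟶ C),
      P (Spec.map ψ ≫ U.2.fromSpec) ↔ L ≤ RingHom.ker ψ.hom) :
    ∀ (C : CommRingCat.{u}) (ψ : Γ(T, W.1) ⟶ C),
      P (Spec.map ψ ≫ W.2.fromSpec) ↔
        L.map (T.presheaf.map (homOfLE hle).op).hom ≤ RingHom.ker ψ.hom := by
  intro C ψ
  rw [← U.2.map_fromSpec W.2 (homOfLE hle).op, ← Spec.map_comp_assoc, h,
    Ideal.map_le_iff_le_comap, RingHom.comap_ker]
  rfl

lemma exists_lift_away (U : T.affineOpens) (s : Γ(T, U.1)) {C : CommRingCat.{u}}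
    (ψ : Γ(T, U.1) ⟶ C) :
    ∃ ψs : Γ(T, T.basicOpen s) ⟶ .of (Localization.Away (ψ.hom s)),
      (∀ a, ψs.hom ((T.presheaf.map (homOfLE (T.basicOpen_le s)).op).hom a) =
        algebraMap C (Localization.Away (ψ.hom s)) (ψ.hom a)) ∧
      Spec.map ψs ≫ (U.2.basicOpen s).fromSpec =
        Spec.map (CommRingCat.ofHom (algebraMap C (Localization.Away (ψ.hom s)))) ≫
          Spec.map ψ ≫ U.2.fromSpec := by
  letI := U.2.isLocalization_basicOpen s
  have hu : IsUnit ((algebraMap C (Localization.Away (ψ.hom s))).comp ψ.hom s) :=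
    IsLocalization.Away.algebraMap_isUnit (ψ.hom s)
  obtain ⟨f, hf⟩ : ∃ f : Γ(T, T.basicOpen s) →+* Localization.Away (ψ.hom s),
      f.comp (algebraMap Γ(T, U.1) Γ(T, T.basicOpen s)) =
        (algebraMap C (Localization.Away (ψ.hom s))).comp ψ.hom :=
    ⟨_, IsLocalization.Away.lift_comp s hu⟩
  refine ⟨CommRingCat.ofHom f, fun a => RingHom.congr_fun hf a, ?_⟩
  rw [← U.2.map_fromSpec (U.2.basicOpen s) (homOfLE (T.basicOpen_le s)).op,
    ← Spec.map_comp_assoc, ← Spec.map_comp_assoc]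
  congr 2
  exact CommRingCat.hom_ext hf

/-- compatibility of the local ideals on overlaps -/
lemma exists_pow_mul_mem (U : T.affineOpens) (s t : Γ(T, U.1))
    {L : Ideal Γ(T, T.basicOpen s)} {M : Ideal Γ(T, T.basicOpen t)}
    (hL : ∀ (C : CommRingCat.{u}) (ψ : Γ(T, T.basicOpen s) ⟶ C),
      P (Spec.map ψ ≫ (U.2.basicOpen s).fromSpec) ↔ L ≤ RingHom.ker ψ.hom)
    (hM : ∀ (C : CommRingCat.{u}) (ψ : Γ(T, T.basicOpen t) ⟶ C),
      P (Spec.map ψ ≫ (U.2.basicOpen t).fromSpec) ↔ M ≤ RingHom.ker ψ.hom)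
    {x : Γ(T, U.1)} (hx : (T.presheaf.map (homOfLE (T.basicOpen_le s)).op).hom x ∈ L) :
    ∃ m : ℕ, (T.presheaf.map (homOfLE (T.basicOpen_le t)).op).hom (s ^ m * x) ∈ M := by
  let Vt : T.affineOpens := ⟨T.basicOpen t, U.2.basicOpen t⟩
  let Vs : T.affineOpens := ⟨T.basicOpen s, U.2.basicOpen s⟩
  let σ : Γ(T, T.basicOpen t) := (T.presheaf.map (homOfLE (T.basicOpen_le t)).op).hom s
  letI := (U.2.basicOpen t).isLocalization_basicOpen σ
  let W : T.affineOpens := ⟨T.basicOpen σ, (U.2.basicOpen t).basicOpen σ⟩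
  have hWt : W.1 ≤ T.basicOpen t := T.basicOpen_le _
  have hWs : W.1 ≤ T.basicOpen s := by
    change T.basicOpen σ ≤ _
    simp only [σ]
    rw [Scheme.basicOpen_res]
    exact inf_le_right
  have heq := ideal_unique (good_of_le (U := Vs) (W := W) hWs hL)
    (good_of_le (U := Vt) (W := W) hWt hM)
  have h1 : (T.presheaf.map (homOfLE hWs).op).hom
      ((T.presheaf.map (homOfLE (T.basicOpen_le s)).op).hom x) ∈
        L.map (T.presheaf.map (homOfLE hWs).op).hom := Ideal.mem_map_of_mem _ hx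
  rw [heq, ← RingHom.comp_apply, ← CommRingCat.hom_comp, ← T.presheaf.map_comp] at h1
  have h2 : algebraMap Γ(T, T.basicOpen t) Γ(T, T.basicOpen σ)
      ((T.presheaf.map (homOfLE (T.basicOpen_le t)).op).hom x) ∈
        M.map (algebraMap Γ(T, T.basicOpen t) Γ(T, T.basicOpen σ)) := by
    change (T.presheaf.map (homOfLE hWt).op).hom _ ∈ _
    rw [← RingHom.comp_apply, ← CommRingCat.hom_comp, ← T.presheaf.map_comp]
    exact h1
  obtain ⟨_, ⟨m, rfl⟩, hm⟩ :=
    (IsLocalization.algebraMap_mem_map_algebraMap_iff (.powers σ) _ _ _).mp h2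
  refine ⟨m, ?_⟩
  rw [map_mul, map_pow]
  exact hm

include hcomp hcover hloc in
lemma good_all (U : T.affineOpens) : Good P U := by
  classical
  have hb : ∀ x : U.1, ∃ s : Γ(T, U.1),
      (x : T) ∈ T.basicOpen s ∧ Good P (T.affineBasicOpen s) := by
    intro x
    obtain ⟨V, hxV, L, hL⟩ := hloc x
    obtain ⟨s, hs, hxs⟩ := U.2.exists_basicOpen_le (V := V.1) ⟨x, hxV⟩ x.2
    exact ⟨s, hxs, _, good_of_le (W := T.affineBasicOpen s) hs hL⟩
  choose s hxs hgood using hb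
  have hspan : Ideal.span (Set.range s) = ⊤ := by
    rw [← U.2.iSup_basicOpen_eq_self_iff]
    refine le_antisymm (iSup_le fun _ => T.basicOpen_le _) fun x hx => ?_
    exact TopologicalSpace.Opens.mem_iSup.mpr ⟨⟨_, Set.mem_range_self ⟨x, hx⟩⟩, hxs ⟨x, hx⟩⟩
  obtain ⟨S, hS, hspan⟩ := (Ideal.span_eq_top_iff_finite _).mp hspan
  have hgood' : ∀ i : S, ∃ L : Ideal Γ(T, T.basicOpen (i.1 : Γ(T, U.1))),
      ∀ (C : CommRingCat.{u}) (ψ : Γ(T, T.basicOpen i.1) ⟶ C),
        P (Spec.map ψ ≫ (U.2.basicOpen i.1).fromSpec) ↔ L ≤ RingHom.ker ψ.hom := by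
    intro i
    obtain ⟨x, hx⟩ := hS i.2
    have := hgood x
    rw [hx] at this
    exact this
  choose L hL using hgood'
  refine ⟨⨅ i : S, (L i).comap (T.presheaf.map (homOfLE (T.basicOpen_le i.1)).op).hom,
    fun C ψ => ⟨fun hψ x hx => ?_, fun hle => ?_⟩⟩
  · rw [RingHom.mem_ker]
    let J : Ideal C := LinearMap.ker (LinearMap.mulRight C (ψ.hom x))
    suffices hJ : J.radical = ⊤ by
      have h1 : (1 : C) ∈ J := by rw [Ideal.radical_eq_top.mp hJ]; trivial
      simpa [J] using h1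
    rw [eq_top_iff, ← Ideal.map_top ψ.hom, ← hspan, Ideal.map_span, Ideal.span_le]
    rintro _ ⟨i, hi, rfl⟩
    obtain ⟨ψi, hcomm, hfrom⟩ := exists_lift_away U i ψ
    have h1 : L ⟨i, hi⟩ ≤ RingHom.ker ψi.hom := by
      refine (hL ⟨i, hi⟩ _ ψi).mp ?_
      rw [hfrom]
      exact hcomp _ hψ
    have h2 : ψi.hom ((T.presheaf.map (homOfLE (T.basicOpen_le i)).op).hom x) = 0 :=
      h1 ((Ideal.mem_iInf.mp hx) ⟨i, hi⟩)
    rw [hcomm] at h2
    obtain ⟨⟨_, n, rfl⟩, hn⟩ := (IsLocalization.map_eq_zero_iff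
      (.powers (ψ.hom i)) (Localization.Away (ψ.hom i)) (ψ.hom x)).mp h2
    exact ⟨n, hn⟩
  · have hspan' : Ideal.span (Set.range fun i : S => ψ.hom i) = ⊤ := by
      rw [show (Set.range fun i : S => ψ.hom i) = ψ.hom '' (S : Set Γ(T, U.1)) by ext; simp,
        ← Ideal.map_span, hspan, Ideal.map_top]
    refine hcover _ (Scheme.affineOpenCoverOfSpanRangeEqTop _ hspan').openCover
      fun (i : S) => ?_
    obtain ⟨ψi, hcomm, hfrom⟩ := exists_lift_away U i.1 ψ
    change P (Spec.map (CommRingCat.ofHom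
      (algebraMap C (Localization.Away (ψ.hom i.1)))) ≫ Spec.map ψ ≫ _)
    rw [← hfrom, hL]
    intro y hy
    letI := U.2.isLocalization_basicOpen i.1
    obtain ⟨n, x, hxy⟩ := IsLocalization.Away.surj i.1 y
    have hx : (T.presheaf.map (homOfLE (T.basicOpen_le i.1)).op).hom x ∈ L i := by
      change algebraMap Γ(T, U.1) Γ(T, T.basicOpen i.1) x ∈ L i
      rw [← hxy]
      exact Ideal.mul_mem_right _ _ hy
    choose m hm using fun k : S => exists_pow_mul_mem U i.1 k.1 (hL i) (hL k) hx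
    have hx0 : i.1 ^ (Finset.univ.sup m) * x ∈
        ⨅ k : S, (L k).comap (T.presheaf.map (homOfLE (T.basicOpen_le k.1)).op).hom := by
      refine Ideal.mem_iInf.mpr fun k => ?_
      obtain ⟨d, hd⟩ := Nat.exists_eq_add_of_le (Finset.le_sup (f := m) (Finset.mem_univ k))
      rw [Ideal.mem_comap, hd, add_comm, pow_add, mul_assoc, map_mul]
      exact Ideal.mul_mem_left _ _ (hm k)
    have h3 : ψ.hom (i.1 ^ (Finset.univ.sup m) * x) = 0 := hle hx0
    rw [map_mul] at h3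
    have h4 := congrArg (algebraMap C (Localization.Away (ψ.hom i.1))) h3
    rw [map_zero, map_mul, map_pow, map_pow] at h4
    have h5 : algebraMap C (Localization.Away (ψ.hom i.1)) (ψ.hom x) = 0 :=
      ((IsLocalization.Away.algebraMap_isUnit (ψ.hom i.1)).pow _).mul_right_eq_zero.mp h4
    rw [← hcomm] at h5
    change ψi.hom (algebraMap Γ(T, U.1) Γ(T, T.basicOpen i.1) x) = 0 at h5
    rw [← hxy, map_mul] at h5
    have hv : IsUnit (ψi.hom (algebraMap Γ(T, U.1) Γ(T, T.basicOpen i.1) i.1 ^ n)) :=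
      ((IsLocalization.Away.algebraMap_isUnit i.1).pow _).map _
    exact hv.mul_left_eq_zero.mp h5

/-- the glued ideal sheaf -/
noncomputable def ideal : T.IdealSheafData where
  ideal U := (good_all (P := P) hcomp hcover hloc U).choose
  map_ideal_basicOpen U f :=
    ideal_unique (good_of_le (W := T.affineBasicOpen f) (T.basicOpen_le f)
      (good_all (P := P) hcomp hcover hloc U).choose_spec) (good_all (P := P) hcomp hcover hloc _).choose_spec

include hcomp hcover hloc in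
/-- Representability of the locus by a closed subscheme. -/
theorem exists_closed :
    ∃ (Z : Scheme.{u}) (i : Z ⟶ T), IsClosedImmersion i ∧
      ∀ (T' : Scheme.{u}) (f : T' ⟶ T), (∃ z, z ≫ i = f) ↔ P f := by
  let K := ideal hcomp hcover hloc
  have hK : ∀ (U : T.affineOpens) (C : CommRingCat.{u}) (ψ : Γ(T, U.1) ⟶ C),
      P (Spec.map ψ ≫ U.2.fromSpec) ↔ K.ideal U ≤ RingHom.ker ψ.hom :=
    fun U => (good_all (P := P) hcomp hcover hloc U).choose_spec
  refine ⟨K.subscheme, K.subschemeι, inferInstance, fun T' f => ⟨?_, fun hf => ?_⟩⟩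
  · rintro ⟨z, rfl⟩
    refine hcomp z (hcover _ K.subschemeCover.openCover fun U => ?_)
    change P (K.subschemeCover.f U ≫ K.subschemeι)
    rw [Scheme.IdealSheafData.subschemeCover_map_subschemeι]
    have : K.glueDataObjι U ≫ U.1.ι =
        Spec.map (CommRingCat.ofHom (Ideal.Quotient.mk (K.ideal U))) ≫ U.2.fromSpec := by
      simp [Scheme.IdealSheafData.glueDataObjι_ι]
    rw [this]
    exact (hK U _ _).mpr (by simp)
  · have hle : K ≤ f.ker := by
      refine Scheme.IdealSheafData.le_ofIdeals_iff.mpr fun U x hx => ?_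
      rw [RingHom.mem_ker]
      refine T'.sheaf.eq_of_locally_eq'
        (fun V : {V : T'.affineOpens // V.1 ≤ f ⁻¹ᵁ U.1} => V.1.1) (f ⁻¹ᵁ U.1)
        (fun V => homOfLE V.2) ?_ _ _ fun V => ?_
      · intro z hz
        obtain ⟨_, ⟨W, hW, rfl⟩, hzW, hWle⟩ :=
          T'.isBasis_affineOpens.exists_subset_of_mem_open hz (f ⁻¹ᵁ U.1).2
        exact TopologicalSpace.Opens.mem_iSup.mpr ⟨⟨⟨W, hW⟩, hWle⟩, hzW⟩
      · refine Eq.trans ?_ (map_zero _).symm
        have h1 := (hK U _ (f.appLE U.1 V.1.1 V.2)).mp (by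
          rw [IsAffineOpen.SpecMap_appLE_fromSpec f U.2 V.1.2 V.2]
          exact hcomp _ hf) hx
        exact h1
    exact ⟨IsClosedImmersion.lift K.subschemeι f
      (by rwa [Scheme.IdealSheafData.ker_subschemeι]), IsClosedImmersion.lift_fac _ _ _⟩

end Groth.Agent.ClosedLocus
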